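import Groth.Agent.L18.ProjSpace
import Groth.Agent.L11.SBAut.Linear
import Mathlib.AlgebraicGeometry.Stalk
import Mathlib.RingTheory.LocalProperties.Basic
import Mathlib.LinearAlgebra.Matrix.GeneralLinearGroup.Defs

/-!
Automorphisms of projective space over a field are linear.
-/

set_option autoImplicit false
set_option linter.style.haveILetI false
set_option backward.isDefEq.respectTransparency false
universe u

noncomputable section

namespace Groth.L15.ProjAut

open CategoryTheory CategoryTheory.Limits AlgebraicGeometry Groth.L18 Groth.L11.SBAut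
open scoped Matrix

/-- Morphisms from an affine scheme which agree on all localizations are equal. -/
theorem ext_of_localizations {B : CommRingCat.{u}} {X : Scheme.{u}} (h h' : Spec B ⟶ X)
    (hh : ∀ (P : Ideal B) [P.IsPrime],
      Spec.map (CommRingCat.ofHom (algebraMap B (Localization.AtPrime P))) ≫ h =
        Spec.map (CommRingCat.ofHom (algebraMap B (Localization.AtPrime P))) ≫ h') : h = h' := by
  have hpt : ∀ q : Spec B, h q = h' q := by
    intro q
    have hq : Spec.map (CommRingCat.ofHom (algebraMap B (Localization.AtPrime q.asIdeal)))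
        (IsLocalRing.closedPoint (Localization.AtPrime q.asIdeal)) = q :=
      PrimeSpectrum.ext Localization.AtPrime.comap_maximalIdeal
    have h1 := congrArg
      (fun g : Spec (CommRingCat.of (Localization.AtPrime q.asIdeal)) ⟶ X =>
        g (IsLocalRing.closedPoint (Localization.AtPrime q.asIdeal))) (hh q.asIdeal)
    simp only [Scheme.Hom.comp_apply] at h1
    rw [hq] at h1
    exact h1
  have hloc : ∀ q : Spec B, ∃ r : B, r ∉ q.asIdeal ∧
      Spec.map (CommRingCat.ofHom (algebraMap B (Localization.Away r))) ≫ h =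
        Spec.map (CommRingCat.ofHom (algebraMap B (Localization.Away r))) ≫ h' := by
    intro q
    obtain ⟨V, hV, hqV, -⟩ := exists_isAffineOpen_mem_and_subset (X := X) (x := h q) (U := ⊤) trivial
    obtain ⟨_, ⟨_, ⟨r, rfl⟩, rfl⟩, hqr, hrV⟩ :=
      PrimeSpectrum.isBasis_basic_opens.exists_subset_of_mem_open (show q ∈ (h ⁻¹ᵁ V : (Spec B).Opens) from hqV)
        (h ⁻¹ᵁ V).isOpen
    refine ⟨r, hqr, ?_⟩
    let C : CommRingCat.{u} := CommRingCat.of (Localization.Away r)
    let j : Spec C ⟶ Spec B := Spec.map (CommRingCat.ofHom (algebraMap B (Localization.Away r)))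
    have hj : ∀ y, h (j y) ∈ V := fun y => hrV (by
      have : j y ∈ Set.range j := ⟨y, rfl⟩
      have h2 : Set.range (PrimeSpectrum.comap (algebraMap B (Localization.Away r))) = PrimeSpectrum.basicOpen r :=
        PrimeSpectrum.localization_away_comap_range (Localization.Away r) r
      exact h2.le this)
    have hr1 : Set.range (j ≫ h) ⊆ Set.range hV.fromSpec := by
      rw [hV.range_fromSpec]; rintro _ ⟨y, rfl⟩; exact hj y
    have hr2 : Set.range (j ≫ h') ⊆ Set.range hV.fromSpec := by
      rw [hV.range_fromSpec]; rintro _ ⟨y, rfl⟩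
      rw [Scheme.Hom.comp_apply, ← hpt]; exact hj y
    let ψ := Spec.preimage (IsOpenImmersion.lift hV.fromSpec (j ≫ h) hr1)
    let ψ' := Spec.preimage (IsOpenImmersion.lift hV.fromSpec (j ≫ h') hr2)
    have e1 : Spec.map ψ ≫ hV.fromSpec = j ≫ h := by rw [Spec.map_preimage]; exact IsOpenImmersion.lift_fac _ _ _
    have e2 : Spec.map ψ' ≫ hV.fromSpec = j ≫ h' := by rw [Spec.map_preimage]; exact IsOpenImmersion.lift_fac _ _ _
    suffices hψ : ψ = ψ' by
      show j ≫ h = j ≫ h'
      rw [← e1, ← e2, hψ]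
    ext c
    rw [← sub_eq_zero]
    refine eq_zero_of_localization _ fun Q hQ => ?_
    haveI := hQ.isPrime
    let P := Q.comap (algebraMap B (Localization.Away r))
    let φ : Localization.AtPrime P →+* Localization.AtPrime Q :=
      Localization.localRingHom P Q (algebraMap B (Localization.Away r)) rfl
    have hφ : φ.comp (algebraMap B (Localization.AtPrime P)) =
        (algebraMap (Localization.Away r) (Localization.AtPrime Q)).comp (algebraMap B (Localization.Away r)) :=
      RingHom.ext fun b => Localization.localRingHom_to_map P Q _ rfl b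
    have hfac : Spec.map (CommRingCat.ofHom (algebraMap (Localization.Away r) (Localization.AtPrime Q))) ≫ j =
        Spec.map (CommRingCat.ofHom φ) ≫ Spec.map (CommRingCat.ofHom (algebraMap B (Localization.AtPrime P))) := by
      show _ ≫ Spec.map _ = _
      rw [← Spec.map_comp, ← Spec.map_comp, ← CommRingCat.ofHom_comp, ← CommRingCat.ofHom_comp, hφ]
    have h3 : Spec.map (CommRingCat.ofHom (algebraMap (Localization.Away r) (Localization.AtPrime Q))) ≫ Spec.map ψ =
        Spec.map (CommRingCat.ofHom (algebraMap (Localization.Away r) (Localization.AtPrime Q))) ≫ Spec.map ψ' := by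
      rw [← cancel_mono hV.fromSpec, Category.assoc, Category.assoc, e1, e2, ← Category.assoc, ← Category.assoc,
        hfac, Category.assoc, Category.assoc, hh P]
    rw [← Spec.map_comp, ← Spec.map_comp] at h3
    rw [map_sub, sub_eq_zero]
    exact RingHom.congr_fun (congrArg CommRingCat.Hom.hom (Spec.map_injective h3)) c
  choose r hr heq using hloc
  refine (Scheme.openCoverOfIsOpenCover (Spec B) (fun q : Spec B => (PrimeSpectrum.basicOpen (r q) : (Spec B).Opens))
    (TopologicalSpace.IsOpenCover.mk (eq_top_iff.mpr fun q _ => TopologicalSpace.Opens.mem_iSup.mpr ⟨q, hr q⟩))).hom_ext _ _ fun q => ?_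
  show Scheme.Opens.ι (X := Spec B) (PrimeSpectrum.basicOpen (r q)) ≫ h = Scheme.Opens.ι (X := Spec B) (PrimeSpectrum.basicOpen (r q)) ≫ h'
  rw [← cancel_epi (basicOpenIsoSpecAway (r q)).inv, ← Category.assoc, ← Category.assoc]
  have hι : (basicOpenIsoSpecAway (r q)).inv ≫ Scheme.Opens.ι (X := Spec B) (PrimeSpectrum.basicOpen (r q)) =
      Spec.map (CommRingCat.ofHom (algebraMap B (Localization.Away (r q)))) :=
    IsOpenImmersion.isoOfRangeEq_inv_fac _ _ _
  rw [hι, heq q]

variable {k : Type u} [Field k] {n : ℕ}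

section Pt

variable {R : Type u} [CommRing R] [Algebra k R]

/-- The point with given homogeneous coordinates. -/
def pt {v : Fin (n + 1) → R} (hv : Unimod v) : Spec (CommRingCat.of R) ⟶ CohB1.ProjSpace n k :=
  PS.tuplePt (B := CommRingCat.of R) (algebraMap k R) v hv.choose hv.choose_spec

theorem pt_eq_tuplePt {v : Fin (n + 1) → R} (hv : Unimod v) (i : Fin (n + 1)) (hi : IsUnit (v i)) :
    pt (k := k) hv = PS.tuplePt (B := CommRingCat.of R) (algebraMap k R) v i hi :=
  PS.tuplePt_chart_eq _ _ _ _ _ _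

theorem pt_toSpec {v : Fin (n + 1) → R} (hv : Unimod v) :
    pt (k := k) hv ≫ CohB1.ProjSpace.toSpec n k = Spec.map (CommRingCat.ofHom (algebraMap k R)) :=
  PS.tuplePt_toSpec _ _ _ _

theorem pt_eq_iff {v w : Fin (n + 1) → R} (hv : Unimod v) (hw : Unimod w) :
    pt (k := k) hv = pt (k := k) hw ↔ Par v w := by
  constructor
  · intro e
    obtain ⟨c, hc⟩ := PS.exists_smul_of_tuplePt_eq _ _ _ _ _ _ e
    exact ⟨(c : R), c.isUnit, funext hc⟩
  · rintro ⟨c, hc, rfl⟩
    exact (PS.tuplePt_smul (B := CommRingCat.of R) (algebraMap k R) v c hw.choose hv.choose hw.choose_spec hv.choose_spec).symm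

theorem map_pt {S : Type u} [CommRing S] [Algebra k S] (ψ : R →ₐ[k] S) {v : Fin (n + 1) → R} (hv : Unimod v)
    (hv' : Unimod (ψ ∘ v)) :
    Spec.map (CommRingCat.ofHom ψ.toRingHom) ≫ pt (k := k) hv = pt (k := k) hv' := by
  rw [pt, PS.SpecMap_tuplePt, pt_eq_tuplePt hv' _ (hv.choose_spec.map ψ)]
  congr 1
  exact RingHom.ext ψ.commutes

theorem exists_pt [IsLocalRing R] (x : Spec (CommRingCat.of R) ⟶ CohB1.ProjSpace n k)
    (hx : x ≫ CohB1.ProjSpace.toSpec n k = Spec.map (CommRingCat.ofHom (algebraMap k R))) :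
    ∃ (v : Fin (n + 1) → R) (hv : Unimod v), x = pt (k := k) hv := by
  obtain ⟨i, hi⟩ := TopologicalSpace.Opens.mem_iSup.1
    ((PS.iSup_chart (n := n) (R := k)).ge (trivial : x (IsLocalRing.closedPoint R) ∈ (⊤ : (CohB1.ProjSpace n k).Opens)))
  have hall : ∀ p, x p ∈ Proj.basicOpen (CohB1.polyGrading n k) (MvPolynomial.X i) := fun p =>
    ((IsLocalRing.specializes_closedPoint p).map x.continuous).mem_open (Proj.basicOpen _ _).isOpen hi
  obtain ⟨τ, b, hb, rfl, -⟩ := PS.exists_tuplePt (B := CommRingCat.of R) x i hall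
  rw [PS.tuplePt_toSpec] at hx
  obtain rfl : τ = algebraMap k R := congrArg CommRingCat.Hom.hom (Spec.map_injective hx)
  exact ⟨b, ⟨i, hb⟩, (pt_eq_tuplePt _ i hb).symm⟩

end Pt

/-- Morphisms agreeing on all points with coordinates agree on every point with values in a local ring. -/
theorem comp_eq_of_pts {Y : Scheme.{u}} (h h' : CohB1.ProjSpace n k ⟶ Y)
    (hh : ∀ (R : Type u) [CommRing R] [IsLocalRing R] [Algebra k R] (v : Fin (n + 1) → R) (hv : Unimod v),
      pt (k := k) hv ≫ h = pt (k := k) hv ≫ h')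
    {R : CommRingCat.{u}} [IsLocalRing R] (x : Spec R ⟶ CohB1.ProjSpace n k) : x ≫ h = x ≫ h' := by
  letI : Algebra k R := (Spec.preimage (x ≫ CohB1.ProjSpace.toSpec n k)).hom.toAlgebra
  obtain ⟨v, hv, e⟩ := exists_pt (R := R) x (Spec.map_preimage (x ≫ CohB1.ProjSpace.toSpec n k)).symm
  rw [e]
  exact hh R v hv

/-- Morphisms out of projective space agreeing on points with values in local rings are equal. -/
theorem hom_ext_pts {Y : Scheme.{u}} (h h' : CohB1.ProjSpace n k ⟶ Y)
    (hh : ∀ (R : Type u) [CommRing R] [IsLocalRing R] [Algebra k R] (v : Fin (n + 1) → R) (hv : Unimod v),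
      pt (k := k) hv ≫ h = pt (k := k) hv ≫ h') : h = h' := by
  refine (CohB1.ProjSpace n k).affineCover.hom_ext _ _ fun j => ?_
  refine ext_of_localizations _ _ fun P _ => ?_
  rw [← Category.assoc, ← Category.assoc]
  exact comp_eq_of_pts h h' hh _

theorem unimod_vecMul {R : Type u} [CommRing R] [Algebra k R] [IsLocalRing R] {v : Fin (n + 1) → R} (hv : Unimod v)
    {M : Matrix (Fin (n + 1)) (Fin (n + 1)) k} (hM : IsUnit M) :
    Unimod (v ᵥ* M.map (algebraMap k R)) := by
  obtain ⟨u, rfl⟩ := hM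
  by_contra hc
  simp only [Unimod, not_exists] at hc
  obtain ⟨i, hi⟩ := hv
  refine (IsLocalRing.mem_maximalIdeal (v i)).mp ?_ hi
  have : v = (v ᵥ* (u : Matrix (Fin (n + 1)) (Fin (n + 1)) k).map (algebraMap k R)) ᵥ*
      ((↑u⁻¹ : Matrix (Fin (n + 1)) (Fin (n + 1)) k)).map (algebraMap k R) := by
    rw [Matrix.vecMul_vecMul, ← Matrix.map_mul, Units.mul_inv, Matrix.map_one _ (map_zero _) (map_one _),
      Matrix.vecMul_one]
  rw [congrFun this i]
  simp only [Matrix.vecMul, dotProduct]
  exact Ideal.sum_mem _ fun j _ => Ideal.mul_mem_right _ _ ((IsLocalRing.mem_maximalIdeal _).mpr (hc j))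

section Act

variable (n k) in
/-- The ring of the chart `i`. -/
abbrev A (i : Fin (n + 1)) : Type u :=
  HomogeneousLocalization.Away (CohB1.polyGrading n k) (MvPolynomial.X i : MvPolynomial (Fin (n + 1)) k)

variable (M : Matrix (Fin (n + 1)) (Fin (n + 1)) k)

/-- The `j`-th new coordinate on the chart `i`. -/
irreducible_def newCoord (i j : Fin (n + 1)) : A k n i :=
  ((fun l => (PS.coord (R := k) i l : A k n i)) ᵥ* M.map (PS.chartScalar n k i)) j

/-- The ring of a member of the cover adapted to `M`. -/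
abbrev L (i j : Fin (n + 1)) : Type u := Localization.Away (newCoord M i j)

/-- The localization map of a member of the cover. -/
abbrev loc (i j : Fin (n + 1)) : A k n i →+* L M i j := algebraMap (A k n i) (L M i j)

/-- The map of a member of the cover adapted to `M`. -/
def cf (i j : Fin (n + 1)) : Spec (CommRingCat.of (L M i j)) ⟶ CohB1.ProjSpace n k :=
  Spec.map (CommRingCat.ofHom (loc M i j)) ≫ PS.chart n k i

instance (i j : Fin (n + 1)) : IsOpenImmersion (cf M i j) := by
  haveI := IsOpenImmersion.of_isLocalization (S := L M i j) (newCoord M i j)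
  unfold cf; infer_instance

/-- The scalars of a member of the cover. -/
def cσ (i j : Fin (n + 1)) : k →+* L M i j := (loc M i j).comp (PS.chartScalar n k i)

/-- The old coordinates on a member of the cover. -/
def cv (i j : Fin (n + 1)) : Fin (n + 1) → L M i j := fun l => loc M i j (PS.coord (R := k) i l)

theorem cv_isUnit (i j : Fin (n + 1)) : IsUnit (cv M i j i) := by
  rw [cv, PS.coord_self, map_one]
  exact isUnit_one

theorem newCoord_map (i j l : Fin (n + 1)) :
    loc M i j (newCoord M i l) = (cv M i j ᵥ* M.map (cσ M i j)) l := by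
  simp only [newCoord_def, Matrix.vecMul, dotProduct, map_sum, map_mul, Matrix.map_apply, cv, cσ, RingHom.comp_apply]

theorem cf_eq (i j : Fin (n + 1)) :
    cf M i j = PS.tuplePt (B := CommRingCat.of (L M i j)) (cσ M i j) (cv M i j) i (cv_isUnit M i j) := by
  rw [cf, PS.tuplePt]
  exact congrArg (fun φ => Spec.map (CommRingCat.ofHom φ) ≫ PS.chart n k i)
    (PS.chartHom_universal (C := CommRingCat.of (L M i j)) i (loc M i j) (cv_isUnit M i j)).symm

/-- A point with values in a local ring factors through the cover. -/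
theorem exists_factor (hM : IsUnit M) {R : Type u} [CommRing R] [IsLocalRing R] [Algebra k R]
    {v : Fin (n + 1) → R} (hv : Unimod v) :
    ∃ (i j : Fin (n + 1)) (φ : L M i j →+* R), φ.comp (cσ M i j) = algebraMap k R ∧
      Spec.map (CommRingCat.ofHom φ) ≫ cf M i j = pt (k := k) hv ∧ Par v (φ ∘ cv M i j) := by
  obtain ⟨i, hi⟩ := id hv
  let ψ : A k n i →+* R := PS.chartHom (algebraMap k R) v i hi
  have hψs : ψ.comp (PS.chartScalar n k i) = algebraMap k R := PS.chartHom_comp_scalar _ _ _ _
  have hψc : ∀ l, ψ (PS.coord i l) * v i = v l := fun l => PS.chartHom_coord _ _ _ _ l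
  obtain ⟨j, hj⟩ := unimod_vecMul hv hM
  have hnew : ψ (newCoord M i j) * v i = (v ᵥ* M.map (algebraMap k R)) j := by
    simp only [newCoord_def, Matrix.vecMul, dotProduct, map_sum, map_mul, Matrix.map_apply, Finset.sum_mul]
    refine Finset.sum_congr rfl fun m _ => ?_
    rw [mul_right_comm, hψc, ← RingHom.comp_apply ψ, hψs]
  have hu : IsUnit (ψ (newCoord M i j)) := isUnit_of_mul_isUnit_left (hnew.symm ▸ hj)
  let φ : L M i j →+* R := IsLocalization.Away.lift (newCoord M i j) hu
  have hφ : φ.comp (loc M i j) = ψ := IsLocalization.Away.lift_comp (newCoord M i j) hu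
  refine ⟨i, j, φ, ?_, ?_, ?_⟩
  · rw [cσ, ← RingHom.comp_assoc, hφ, hψs]
  · rw [cf, ← Category.assoc, ← Spec.map_comp, ← CommRingCat.ofHom_comp, hφ, pt_eq_tuplePt hv i hi]
    rfl
  · refine ⟨(hi.unit⁻¹ : Rˣ), Units.isUnit _, funext fun l => ?_⟩
    rw [Function.comp_apply, cv, ← RingHom.comp_apply φ (loc M i j), hφ, Pi.smul_apply, smul_eq_mul, ← hψc l,
      mul_left_comm, IsUnit.val_inv_mul, mul_one]

/-- Every point with values in a local ring factors through the cover. -/
theorem exists_factor' (hM : IsUnit M) {R : CommRingCat.{u}} [IsLocalRing R] (x : Spec R ⟶ CohB1.ProjSpace n k) :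
    ∃ (p : Fin (n + 1) × Fin (n + 1)) (φ : CommRingCat.of (L M p.1 p.2) ⟶ R),
      Spec.map φ ≫ cf M p.1 p.2 = x := by
  letI : Algebra k R := (Spec.preimage (x ≫ CohB1.ProjSpace.toSpec n k)).hom.toAlgebra
  obtain ⟨v, hv, e⟩ := exists_pt (R := R) x (Spec.map_preimage (x ≫ CohB1.ProjSpace.toSpec n k)).symm
  obtain ⟨i, j, φ, -, h, -⟩ := exists_factor M hM hv
  exact ⟨(i, j), CommRingCat.ofHom φ, h.trans e.symm⟩

/-- The cover adapted to `M`. -/
@[reducible] def cover (hM : IsUnit M) : (CohB1.ProjSpace n k).AffineOpenCover where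
  I₀ := Fin (n + 1) × Fin (n + 1)
  X p := CommRingCat.of (L M p.1 p.2)
  f p := cf M p.1 p.2
  idx x := (exists_factor' M hM ((CohB1.ProjSpace n k).fromSpecStalk x)).choose
  covers x := by
    obtain ⟨φ, h⟩ := (exists_factor' M hM ((CohB1.ProjSpace n k).fromSpecStalk x)).choose_spec
    refine ⟨Spec.map φ (IsLocalRing.closedPoint _), ?_⟩
    rw [← Scheme.Hom.comp_apply, h]
    exact Scheme.fromSpecStalk_closedPoint

/-- The linear substitution. -/
theorem exists_act (hM : IsUnit M) : ∃ ψ : CohB1.ProjSpace n k ⟶ CohB1.ProjSpace n k,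
    ψ ≫ CohB1.ProjSpace.toSpec n k = CohB1.ProjSpace.toSpec n k ∧
    ∀ (R : Type u) [CommRing R] [IsLocalRing R] [Algebra k R] (v : Fin (n + 1) → R) (hv : Unimod v),
      pt (k := k) hv ≫ ψ = pt (k := k) (unimod_vecMul hv hM) := by
  have hu : ∀ i j, IsUnit ((cv M i j ᵥ* M.map (cσ M i j)) j) := fun i j => by
    rw [← newCoord_map]
    exact IsLocalization.Away.algebraMap_isUnit (S := L M i j) (newCoord M i j)
  obtain ⟨ψ, hψ⟩ := PS.exists_hom_of_tuples (cover M hM) (fun p => cσ M p.1 p.2)
    (fun p => cv M p.1 p.2 ᵥ* M.map (cσ M p.1 p.2))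
    (fun p => p.2) (fun p => hu p.1 p.2) (fun p q C f g e => by
      change Spec.map f ≫ cf M p.1 p.2 = Spec.map g ≫ cf M q.1 q.2 at e
      rw [cf_eq, cf_eq, PS.SpecMap_tuplePt, PS.SpecMap_tuplePt] at e
      have hs := congrArg (· ≫ CohB1.ProjSpace.toSpec n k) e
      simp only [PS.tuplePt_toSpec] at hs
      have hσ : f.hom.comp (cσ M p.1 p.2) = g.hom.comp (cσ M q.1 q.2) :=
        congrArg CommRingCat.Hom.hom (Spec.map_injective hs)
      obtain ⟨c, hc⟩ := PS.exists_smul_of_tuplePt_eq _ _ _ _ _ _ e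
      refine ⟨hσ, c, fun m => ?_⟩
      simp only [Matrix.vecMul, dotProduct, map_sum, map_mul, Matrix.map_apply, Finset.mul_sum]
      refine Finset.sum_congr rfl fun l _ => ?_
      rw [hc l, ← RingHom.comp_apply g.hom (cσ M q.1 q.2), ← hσ, RingHom.comp_apply, mul_assoc])
  refine ⟨ψ, ?_, fun R _ _ _ v hv => ?_⟩
  · refine (cover M hM).openCover.hom_ext _ _ fun p => ?_
    show (cover M hM).f p ≫ _ = (cover M hM).f p ≫ _
    rw [← Category.assoc, hψ, PS.tuplePt_toSpec]
    show _ = cf M p.1 p.2 ≫ _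
    rw [cf_eq, PS.tuplePt_toSpec]
  · obtain ⟨i, j, φ, hφs, hφ, c, hc, hcv⟩ := exists_factor M hM hv
    rw [← hφ, Category.assoc]
    show Spec.map _ ≫ (cover M hM).f (i, j) ≫ ψ = _
    rw [hψ (i, j), PS.SpecMap_tuplePt]
    have heq : ∀ m, φ ((cv M i j ᵥ* M.map (cσ M i j)) m) = c * (v ᵥ* M.map (algebraMap k R)) m := fun m => by
      simp only [Matrix.vecMul, dotProduct, map_sum, map_mul, Matrix.map_apply, Finset.mul_sum]
      refine Finset.sum_congr rfl fun l _ => ?_
      rw [← RingHom.comp_apply φ (cσ M i j), hφs, show φ (cv M i j l) = c * v l from congrFun hcv l, mul_assoc]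
    have hu' := (hu i j).map φ
    have hu'' : IsUnit (c * (v ᵥ* M.map (algebraMap k R)) j) := heq j ▸ hu'
    rw [pt_eq_tuplePt (unimod_vecMul hv hM) j (isUnit_of_mul_isUnit_right hu'')]
    refine Eq.trans ?_ (PS.tuplePt_smul (B := CommRingCat.of R) (algebraMap k R) (v ᵥ* M.map (algebraMap k R)) c j j hu''
      (isUnit_of_mul_isUnit_right hu''))
    congr 1
    exact funext heq

end Act

/-- The linear substitution by an invertible matrix. -/
def act (M : Matrix.GeneralLinearGroup (Fin (n + 1)) k) : CohB1.ProjSpace n k ⟶ CohB1.ProjSpace n k :=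
  (exists_act (M : Matrix (Fin (n + 1)) (Fin (n + 1)) k) M.isUnit).choose

theorem act_toSpec (M : Matrix.GeneralLinearGroup (Fin (n + 1)) k) :
    act M ≫ CohB1.ProjSpace.toSpec n k = CohB1.ProjSpace.toSpec n k :=
  (exists_act _ M.isUnit).choose_spec.1

theorem pt_act (M : Matrix.GeneralLinearGroup (Fin (n + 1)) k) (R : Type u) [CommRing R] [IsLocalRing R]
    [Algebra k R] {v : Fin (n + 1) → R} (hv : Unimod v) :
    pt (k := k) hv ≫ act M = pt (k := k) (unimod_vecMul hv M.isUnit) :=
  (exists_act _ M.isUnit).choose_spec.2 R v hv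

theorem pt_congr {R : Type u} [CommRing R] [Algebra k R] {v w : Fin (n + 1) → R} (hv : Unimod v) (hw : Unimod w)
    (h : v = w) : pt (k := k) hv = pt (k := k) hw := by subst h; rfl

theorem act_one : act (1 : Matrix.GeneralLinearGroup (Fin (n + 1)) k) = 𝟙 _ :=
  hom_ext_pts _ _ fun R _ _ _ v hv => by
    rw [pt_act, Category.comp_id]
    exact pt_congr _ _ (by rw [Units.val_one, Matrix.map_one _ (map_zero _) (map_one _), Matrix.vecMul_one])

theorem act_mul (M N : Matrix.GeneralLinearGroup (Fin (n + 1)) k) : act (M * N) = act M ≫ act N :=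
  hom_ext_pts _ _ fun R _ _ _ v hv => by
    rw [pt_act, ← Category.assoc, pt_act, pt_act]
    exact pt_congr _ _ (by rw [Units.val_mul, Matrix.map_mul, Matrix.vecMul_vecMul])

/-- Linear substitution as a homomorphism to the automorphism group. -/
def toAut : Matrix.GeneralLinearGroup (Fin (n + 1)) k →* Aut (Over.mk (CohB1.ProjSpace.toSpec n k)) where
  toFun M := Over.isoMk
    { hom := act M⁻¹
      inv := act M
      hom_inv_id := by rw [← act_mul, inv_mul_cancel, act_one]; rfl
      inv_hom_id := by rw [← act_mul, mul_inv_cancel, act_one]; rfl }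
    (act_toSpec _)
  map_one' := by
    refine Iso.ext (Over.OverMorphism.ext ?_)
    show act (1 : Matrix.GeneralLinearGroup (Fin (n + 1)) k)⁻¹ = 𝟙 _
    rw [inv_one, act_one]
  map_mul' M N := by
    refine Iso.ext (Over.OverMorphism.ext ?_)
    show act (M * N)⁻¹ = act N⁻¹ ≫ act M⁻¹
    rw [mul_inv_rev, act_mul]

theorem toAut_apply (M : Matrix.GeneralLinearGroup (Fin (n + 1)) k) : (toAut M).hom.left = act M⁻¹ := rfl

theorem unimod_comp {R S : Type u} [CommRing R] [CommRing S] {m : ℕ} {v : Fin m → R} (hv : Unimod v) (f : R →+* S) :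
    Unimod (f ∘ v) :=
  hv.imp fun _ hi => hi.map f

theorem pt_comp_toSpec (g : Over.mk (CohB1.ProjSpace.toSpec n k) ⟶ Over.mk (CohB1.ProjSpace.toSpec n k))
    {R : Type u} [CommRing R] [Algebra k R] {v : Fin (n + 1) → R} (hv : Unimod v) :
    (pt (k := k) hv ≫ g.left) ≫ CohB1.ProjSpace.toSpec n k = Spec.map (CommRingCat.ofHom (algebraMap k R)) := by
  rw [Category.assoc]
  erw [Over.w g]
  exact pt_toSpec hv

/-- The natural map on lines of an endomorphism over `k`. -/
def lineFun (g : Over.mk (CohB1.ProjSpace.toSpec n k) ⟶ Over.mk (CohB1.ProjSpace.toSpec n k)) :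
    LineFun k (n + 1) where
  app R _ _ _ v :=
    haveI := Classical.dec (Unimod v)
    if hv : Unimod v then (exists_pt (pt (k := k) hv ≫ g.left) (pt_comp_toSpec g hv)).choose else v
  unimod R _ _ _ v h := by
    simp only [dif_pos h]
    exact (exists_pt (pt (k := k) h ≫ g.left) (pt_comp_toSpec g h)).choose_spec.choose
  congr R _ _ _ v w h hp := by
    simp only [dif_pos h, dif_pos (hp.unimod h)]
    obtain ⟨h1, e1⟩ := (exists_pt (pt (k := k) h ≫ g.left) (pt_comp_toSpec g h)).choose_spec
    obtain ⟨h2, e2⟩ := (exists_pt (pt (k := k) (hp.unimod h) ≫ g.left) (pt_comp_toSpec g (hp.unimod h))).choose_spec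
    rw [← pt_eq_iff (k := k) h1 h2, ← e1, ← e2, (pt_eq_iff h (hp.unimod h)).mpr hp]
  nat R S _ _ _ _ _ _ ψ v h := by
    have h' : Unimod (ψ ∘ v) := unimod_comp h ψ.toRingHom
    simp only [dif_pos h, dif_pos h']
    obtain ⟨h1, e1⟩ := (exists_pt (pt (k := k) h ≫ g.left) (pt_comp_toSpec g h)).choose_spec
    obtain ⟨h2, e2⟩ := (exists_pt (pt (k := k) h' ≫ g.left) (pt_comp_toSpec g h')).choose_spec
    have h1' : Unimod (ψ ∘ (exists_pt (pt (k := k) h ≫ g.left) (pt_comp_toSpec g h)).choose) := unimod_comp h1 ψ.toRingHom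
    rw [← pt_eq_iff (k := k) h1' h2, ← e2, ← map_pt ψ h1 _, ← e1, ← Category.assoc,
      map_pt ψ h h']

theorem pt_lineFun (g : Over.mk (CohB1.ProjSpace.toSpec n k) ⟶ Over.mk (CohB1.ProjSpace.toSpec n k))
    (R : Type u) [CommRing R] [IsLocalRing R] [Algebra k R] {v : Fin (n + 1) → R} (hv : Unimod v) :
    pt (k := k) ((lineFun g).unimod R v hv) = pt (k := k) hv ≫ g.left := by
  have h := (exists_pt (pt (k := k) hv ≫ g.left) (pt_comp_toSpec g hv)).choose_spec.choose_spec
  exact (pt_congr _ _ (dif_pos hv)).trans h.symm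

theorem toAut_surjective : Function.Surjective (toAut (k := k) (n := n)) := by
  intro g
  obtain ⟨M, hM, hMf⟩ := exists_matrix (lineFun g.hom) (lineFun g.inv) fun R _ _ _ v hv => by
    rw [← pt_eq_iff (k := k) ((lineFun g.inv).unimod R _ ((lineFun g.hom).unimod R v hv)) hv, pt_lineFun g.inv R ((lineFun g.hom).unimod R v hv),
      pt_lineFun g.hom R hv, Category.assoc, ← Over.comp_left, g.hom_inv_id]
    exact Category.comp_id _
  refine ⟨hM.unit⁻¹, Iso.ext (Over.OverMorphism.ext ?_)⟩
  rw [toAut_apply, inv_inv]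
  refine hom_ext_pts _ _ fun R _ _ _ v hv => ?_
  rw [pt_act, ← pt_lineFun g.hom R hv, pt_eq_iff]
  exact (hMf R v hv).symm

theorem toAut_ker : (toAut (k := k) (n := n)).ker =
    (Units.map (Matrix.scalar (Fin (n + 1)) : k →+* Matrix (Fin (n + 1)) (Fin (n + 1)) k).toMonoidHom).range := by
  ext M
  constructor
  · intro h
    have h1 : act M⁻¹ = 𝟙 _ := by rw [← toAut_apply, MonoidHom.mem_ker.mp h]; rfl
    have h2 : act M = 𝟙 _ := by
      have := act_mul M⁻¹ M
      rw [inv_mul_cancel, act_one, h1, Category.id_comp] at this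
      exact this.symm
    have hpar : ∀ v : Fin (n + 1) → k, Unimod v → ∃ c : k, v ᵥ* (M : Matrix _ _ k) = c • v := fun v hv => by
      have e := pt_act M k hv
      rw [h2, Category.comp_id] at e
      obtain ⟨c, -, hc⟩ := (pt_eq_iff hv _).mp e
      exact ⟨c, by simpa using hc⟩
    choose c hc using fun i => hpar (Pi.single i 1) ⟨i, by simp⟩
    obtain ⟨a, ha⟩ := hpar (fun _ => 1) ⟨0, isUnit_one⟩
    have hent : ∀ i j, (M : Matrix _ _ k) i j = if i = j then c i else 0 := fun i j => by
      have := congrFun (hc i) j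
      simpa [Matrix.single_one_vecMul, Pi.single_apply, eq_comm] using this
    have hca : ∀ j, c j = a := fun j => by
      have := congrFun ha j
      simpa [Matrix.vecMul, dotProduct, hent] using this
    have hMa : (M : Matrix _ _ k) = Matrix.scalar (Fin (n + 1)) a := by
      ext i j
      rw [hent, hca, Matrix.scalar_apply, Matrix.diagonal_apply]
    have ha0 : a ≠ 0 := fun h0 => M.ne_zero (by rw [hMa, h0, map_zero])
    exact ⟨Units.mk0 a ha0, Units.ext hMa.symm⟩
  · rintro ⟨a, rfl⟩
    rw [MonoidHom.mem_ker]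
    refine Iso.ext (Over.OverMorphism.ext ?_)
    rw [toAut_apply]
    show act _ = 𝟙 _
    refine hom_ext_pts _ _ fun R _ _ _ v hv => ?_
    rw [pt_act, Category.comp_id, pt_eq_iff, ← map_inv]
    refine Par.symm ⟨algebraMap k R (a⁻¹ : kˣ), (Units.isUnit _).map _, ?_⟩
    ext j
    simp [Matrix.vecMul, dotProduct, Matrix.scalar_apply, Matrix.diagonal_apply, apply_ite (algebraMap k R), mul_comm]

end Groth.L15.ProjAut
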